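import Groth.Agent.BunLib68.DualTensor
import Groth.Agent.BunLib68.TF.Beta
import Groth.Agent.KFlatLib.Scheme.PullTensorCx
import Groth.Agent.Nrm34.Sections
import Groth.Agent.PPSheaf.Gen

/-! The dual commutes with pullback for finite locally free modules. -/

universe u

set_option backward.isDefEq.respectTransparency false
set_option backward.isDefEq.respectTransparency.types false
set_option linter.style.haveILetI false
set_option linter.unusedSectionVars false
set_option synthInstance.maxHeartbeats 200000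
set_option maxHeartbeats 1000000

open CategoryTheory CategoryTheory.Limits AlgebraicGeometry TopologicalSpace Opposite

noncomputable section

namespace Groth.Agent.CurvFam16.Sep

open Groth.Agent Groth.Agent.BunLib68

variable {X Z : Scheme.{u}} (g : X ⟶ Z) (F : Z.Modules)

/-- Evaluation of a functional at a section. -/
def evBilin : H23.TensorDesc.Bilin F (RefHull.dual F) (Coh.structureModule Z) where
  b U m θ := RefX.app (le_refl U) θ m
  add_left U m m' θ := RefX.app_add _ _ _ _
  smul_left U r m θ := RefX.app_smul _ _ _ _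
  add_right U m θ θ' := ZClosLib.section_ext _ _ _ fun y hy => by
    rw [map_add, RefX.germ_app, RefX.germ_app, RefX.germ_app]
    rfl
  smul_right U r m θ := ZClosLib.section_ext _ _ _ fun y hy => by
    rw [QCoh.germ_smul', RefX.germ_app, RefX.germ_app, RefX.smul_val]
    rfl
  res {U V} h m θ := ZClosLib.section_ext _ _ _ fun y hy => by
    refine (TopCat.Presheaf.germ_res_apply _ _ _ hy _).trans ?_
    refine (RefX.germ_app (le_refl U) θ m (h hy)).trans ?_
    refine Eq.trans ?_ (RefX.germ_app (le_refl V) _ _ hy).symm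
    exact congrArg (θ.1 ⟨y, h hy⟩) (TopCat.Presheaf.germ_res_apply _ _ _ hy _).symm

/-- Evaluation `F ⊗ dual F ⟶ O`. -/
def ev : CohB1.tensorMod F (RefHull.dual F) ⟶ Coh.structureModule Z :=
  H23.TensorDesc.desc (evBilin F)

/-- The comparison of the pullback of the tensor product. -/
def pt : (Scheme.Modules.pullback g).obj (CohB1.tensorMod F (RefHull.dual F)) ⟶
    CohB1.tensorMod ((Scheme.Modules.pullback g).obj F) ((Scheme.Modules.pullback g).obj (RefHull.dual F)) :=
  KFlatLib.pullTensorHom g F (RefHull.dual F)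

instance : IsIso (pt g F) :=
  inferInstanceAs (IsIso (((KFlatLib.pullTensorBiIso g).hom.app F).app (RefHull.dual F)))

/-- The pulled back evaluation. -/
def pullEv : CohB1.tensorMod ((Scheme.Modules.pullback g).obj F)
    ((Scheme.Modules.pullback g).obj (RefHull.dual F)) ⟶ Coh.structureModule X :=
  inv (pt g F) ≫
    (Scheme.Modules.pullback g).map (ev F) ≫ (CurveBC.unitIso g).hom

/-- `g^*(dual F) ⟶ dual (g^* F)`. -/
def dualPull : (Scheme.Modules.pullback g).obj (RefHull.dual F) ⟶
    RefHull.dual ((Scheme.Modules.pullback g).obj F) :=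
  curry (pullEv g F)

theorem pullEv_tmul {U : Z.Opens} (m : Γ(F, U)) (θ : Γ(RefHull.dual F, U)) :
    (pullEv g F).app (g ⁻¹ᵁ U) (SecTwist.tmul _ _ (g ⁻¹ᵁ U) (OmegaSh.pullSect g F U m)
      (OmegaSh.pullSect g (RefHull.dual F) U θ)) =
      g.app U (show Γ(Z, U) from RefX.app (le_refl U) θ m) := by
  have h1 : (pt g F).app (g ⁻¹ᵁ U)
      (OmegaSh.pullSect g (CohB1.tensorMod F (RefHull.dual F)) U (SecTwist.tmul _ _ U m θ)) =
      SecTwist.tmul _ _ (g ⁻¹ᵁ U) (OmegaSh.pullSect g F U m) (OmegaSh.pullSect g (RefHull.dual F) U θ) :=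
    KFlatLib.pullTensorHom_pb g F (RefHull.dual F) m θ
  rw [← h1, pullEv, ← ConcreteCategory.comp_apply, ← Scheme.Modules.Hom.comp_app, IsIso.hom_inv_id_assoc (pt g F),
    Scheme.Modules.Hom.comp_app, ConcreteCategory.comp_apply]
  have h2 : ((Scheme.Modules.pullback g).map (ev F)).app (g ⁻¹ᵁ U)
      (OmegaSh.pullSect g (CohB1.tensorMod F (RefHull.dual F)) U (SecTwist.tmul _ _ U m θ)) =
      OmegaSh.pullSect g (Coh.structureModule Z) U ((ev F).app U (SecTwist.tmul _ _ U m θ)) :=
    (KFlatLib.pb_naturality g (ev F) (U := U) _).symm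
  rw [h2]
  exact (congrArg (fun z => (CurveBC.unitIso g).hom.app (g ⁻¹ᵁ U) (OmegaSh.pullSect g (Coh.structureModule Z) U z))
    (H23.TensorDesc.desc_tmul (evBilin F) U m θ)).trans (Nrm34.unitIso_pullSect g U _)

/-- The value of the comparison on pulled back sections. -/
theorem evalStalk_dualPull (x : X) {U : Z.Opens} (hx : x ∈ g ⁻¹ᵁ U) (m : Γ(F, U))
    (θ : Γ(RefHull.dual F, U)) :
    RefHull.evalStalk ((Scheme.Modules.pullback g).obj F) (Coh.structureModule X) x
      (RefHull.stalkMapₗ (dualPull g F) x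
        (((Scheme.Modules.pullback g).obj (RefHull.dual F)).presheaf.germ (g ⁻¹ᵁ U) x hx
          (OmegaSh.pullSect g (RefHull.dual F) U θ)))
      (((Scheme.Modules.pullback g).obj F).presheaf.germ (g ⁻¹ᵁ U) x hx (OmegaSh.pullSect g F U m)) =
    RefX.unitStalk x (g.stalkMap x ((RefX.unitStalk (g x)).symm
      (θ.1 ⟨g x, hx⟩ (F.presheaf.germ U (g x) hx m)))) := by
  rw [RefHull.stalkMapₗ_germ]
  refine (LinearMap.congr_fun (RefHull.evalStalk_germ (F := (Scheme.Modules.pullback g).obj F)
    (G := Coh.structureModule X) x hx _) _).trans ?_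
  show RefHull.stalkMapₗ (pullEv g F) x (stalkPair _ _ x
    (((Scheme.Modules.pullback g).obj (RefHull.dual F)).presheaf.germ (g ⁻¹ᵁ U) x hx
      (OmegaSh.pullSect g (RefHull.dual F) U θ))
    (((Scheme.Modules.pullback g).obj F).presheaf.germ (g ⁻¹ᵁ U) x hx (OmegaSh.pullSect g F U m))) = _
  rw [stalkPair_germ, RefHull.stalkMapₗ_germ, pullEv_tmul, ← RefX.germ_app (le_refl U) θ m hx]
  rw [← unitStalk_germ (g x) hx, LinearEquiv.symm_apply_apply, Scheme.Hom.germ_stalkMap_apply, unitStalk_germ]

/-- The pullback of a germ. -/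
def pullGerm (x : X) : F.presheaf.stalk (g x) →ₛₗ[(g.stalkMap x).hom]
    ((Scheme.Modules.pullback g).obj F).presheaf.stalk x where
  toFun a := (KFlatLib.stalkPullbackIso g x).inv.app F
    ((ModuleCat.extendRestrictScalarsAdj (g.stalkMap x).hom).unit.app ((DerSch.stalkFunctor Z (g x)).obj F) a)
  map_add' a b := by
    refine Eq.trans ?_ (map_add ((KFlatLib.stalkPullbackIso g x).inv.app F).hom _ _)
    exact congrArg _ (map_add ((ModuleCat.extendRestrictScalarsAdj (g.stalkMap x).hom).unit.app
      ((DerSch.stalkFunctor Z (g x)).obj F)).hom a b)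
  map_smul' r a := by
    refine Eq.trans ?_ (map_smul ((KFlatLib.stalkPullbackIso g x).inv.app F).hom _ _)
    exact congrArg _ (map_smul ((ModuleCat.extendRestrictScalarsAdj (g.stalkMap x).hom).unit.app
      ((DerSch.stalkFunctor Z (g x)).obj F)).hom r a)

theorem pullGerm_germ (x : X) {U : Z.Opens} (hx : x ∈ g ⁻¹ᵁ U) (m : Γ(F, U)) :
    pullGerm g F x (F.presheaf.germ U (g x) hx m) =
      ((Scheme.Modules.pullback g).obj F).presheaf.germ (g ⁻¹ᵁ U) x hx (OmegaSh.pullSect g F U m) :=
  (congrArg ((KFlatLib.stalkPullbackIso g x).inv.app F)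
    (KFlatLib.stalkPullbackIso_gm g x F U hx m)).symm.trans
    (Iso.hom_inv_id_apply ((KFlatLib.stalkPullbackIso g x).app F) _)

theorem span_pullGerm (x : X) : Submodule.span (X.presheaf.stalk x) (Set.range (pullGerm g F x)) = ⊤ := by
  refine eq_top_iff.2 ((PPSheaf.span_pullSect_eq_top g F x).ge.trans (Submodule.span_mono ?_))
  rintro _ ⟨W, hW, s, rfl⟩
  exact ⟨_, pullGerm_germ g F x hW s⟩

theorem span_pullGerm_basis (x : X) {ι : Type*} (b : Module.Basis ι (Z.presheaf.stalk (g x)) (F.presheaf.stalk (g x))) :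
    Submodule.span (X.presheaf.stalk x) (Set.range fun i => pullGerm g F x (b i)) = ⊤ := by
  refine eq_top_iff.2 ((span_pullGerm g F x).ge.trans (Submodule.span_le.2 ?_))
  rintro _ ⟨a, rfl⟩
  have ha : a ∈ Submodule.span (Z.presheaf.stalk (g x)) (Set.range b) := b.mem_span a
  induction ha using Submodule.span_induction with
  | mem v hv =>
    obtain ⟨i, rfl⟩ := hv
    exact Submodule.subset_span ⟨i, rfl⟩
  | zero => simp
  | add u v _ _ hu hv =>
    rw [map_add]
    exact add_mem hu hv
  | smul r v _ hv =>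
    rw [LinearMap.map_smulₛₗ]
    exact Submodule.smul_mem _ _ hv

/-- The value of the comparison on pulled back germs. -/
theorem evalStalk_pullGerm (x : X) (a : F.presheaf.stalk (g x)) (t : (RefHull.dual F).presheaf.stalk (g x)) :
    RefHull.evalStalk ((Scheme.Modules.pullback g).obj F) (Coh.structureModule X) x
      (RefHull.stalkMapₗ (dualPull g F) x (pullGerm g (RefHull.dual F) x t)) (pullGerm g F x a) =
    RefX.unitStalk x (g.stalkMap x ((RefX.unitStalk (g x)).symm
      (RefHull.evalStalk F (Coh.structureModule Z) (g x) t a))) := by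
  obtain ⟨U, hU, m, rfl⟩ := TopCat.Presheaf.exists_germ_eq F.presheaf a
  obtain ⟨V, hV, θ, rfl⟩ := TopCat.Presheaf.exists_germ_eq (RefHull.dual F).presheaf t
  have hW : x ∈ g ⁻¹ᵁ (U ⊓ V) := ⟨hU, hV⟩
  rw [← RefX.germ_res F (inf_le_left : U ⊓ V ≤ U) ⟨hU, hV⟩,
    ← RefX.germ_res (RefHull.dual F) (inf_le_right : U ⊓ V ≤ V) ⟨hU, hV⟩,
    pullGerm_germ g F x hW, pullGerm_germ g (RefHull.dual F) x hW,
    evalStalk_dualPull g F x hW]
  congr 3
  exact (LinearMap.congr_fun (RefHull.evalStalk_germ (F := F) (G := Coh.structureModule Z) (g x) _ _) _).symm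

/-- For a finite locally free module the comparison is an isomorphism. -/
theorem isIso_dualPull (hF : FlatMod.IsFinLocFree F)
    (hgF : FlatMod.IsFinLocFree ((Scheme.Modules.pullback g).obj F)) :
    IsIso (dualPull g F) := by
  refine ZClosLib.isIso_of_stalkMap_bijective _ fun x => ?_
  show Function.Bijective (RefHull.stalkMapₗ (dualPull g F) x)
  haveI := QCoh.free_stalk_of_isFinLocFree hF (g x)
  haveI := finite_stalk hF (g x)
  classical
  let b := Module.Free.chooseBasis (Z.presheaf.stalk (g x)) (F.presheaf.stalk (g x))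
  let e := RefX.dualStalk (QCoh.isFP_of_isFinLocFree hF) (g x)
  let bd := b.dualBasis.map e.symm
  have hdel : ∀ i j, (RefX.unitStalk (g x)).symm
      (RefHull.evalStalk F (Coh.structureModule Z) (g x) (bd i) (b j)) = if j = i then 1 else 0 := by
    intro i j
    show e (bd i) (b j) = _
    rw [show e (bd i) = b.dualBasis i from e.apply_symm_apply _]
    exact b.dualBasis_apply_self i j
  let Φ : ((Scheme.Modules.pullback g).obj (RefHull.dual F)).presheaf.stalk x →ₗ[X.presheaf.stalk x] _ :=
    (RefHull.evalStalk ((Scheme.Modules.pullback g).obj F) (Coh.structureModule X) x).comp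
      (RefHull.stalkMapₗ (dualPull g F) x)
  have hΦ : ∀ i j, Φ (pullGerm g (RefHull.dual F) x (bd i)) (pullGerm g F x (b j)) =
      if j = i then RefX.unitStalk x 1 else 0 := by
    intro i j
    show RefHull.evalStalk _ _ x (RefHull.stalkMapₗ (dualPull g F) x _) _ = _
    rw [evalStalk_pullGerm, hdel]
    split <;> simp
  have hsum : ∀ (c : _ → X.presheaf.stalk x) j,
      Φ (∑ i, c i • pullGerm g (RefHull.dual F) x (bd i)) (pullGerm g F x (b j)) = RefX.unitStalk x (c j) := by
    intro c j
    rw [map_sum, LinearMap.sum_apply, Finset.sum_eq_single j]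
    · rw [map_smul, LinearMap.smul_apply, hΦ, if_pos rfl, ← map_smul, smul_eq_mul, mul_one]
    · intro i _ hi
      rw [map_smul, LinearMap.smul_apply, hΦ, if_neg (Ne.symm hi), smul_zero]
    · intro h
      exact absurd (Finset.mem_univ j) h
  have hbij : Function.Bijective Φ := by
    refine ⟨(injective_iff_map_eq_zero Φ).2 fun τ hτ => ?_, fun ψ => ?_⟩
    · have hmem : τ ∈ Submodule.span (X.presheaf.stalk x)
          (Set.range fun i => pullGerm g (RefHull.dual F) x (bd i)) :=
        span_pullGerm_basis g (RefHull.dual F) x bd ▸ Submodule.mem_top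
      obtain ⟨c, rfl⟩ := (Submodule.mem_span_range_iff_exists_fun _).1 hmem
      refine Finset.sum_eq_zero fun j _ => ?_
      have h1 := hsum c j
      rw [hτ] at h1
      rw [(RefX.unitStalk x).map_eq_zero_iff.1 h1.symm, zero_smul]
    · refine ⟨∑ i, (RefX.unitStalk x).symm (ψ (pullGerm g F x (b i))) • pullGerm g (RefHull.dual F) x (bd i),
        LinearMap.ext_on (span_pullGerm_basis g F x b) ?_⟩
      rintro _ ⟨j, rfl⟩
      exact (hsum _ j).trans ((RefX.unitStalk x).apply_symm_apply _)
  exact (Function.Bijective.of_comp_iff' (evalStalk_bij hgF x) _).1 hbij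

end Groth.Agent.CurvFam16.Sep
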