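import Groth.Agent.CurvFam16.Sep.Stable
import Groth.Agent.Pic13Lib.FamEuler
import Groth.Agent.ParLib.FibreBound
import Groth.Agent.Pic13Lib.ConstSemi
import Groth.Agent.GrpdSlice.Closed

/-! Stable bundles are separated in families. -/

universe u

set_option backward.isDefEq.respectTransparency false
set_option backward.isDefEq.respectTransparency.types false
set_option linter.style.haveILetI false
set_option linter.unusedSectionVars false
set_option maxHeartbeats 1000000
set_option synthInstance.maxHeartbeats 200000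

open CategoryTheory CategoryTheory.Limits AlgebraicGeometry TopologicalSpace Opposite
open Groth.Agent.CurveBundle Groth.Agent.CurveSlope Groth.Agent.BunLib68

attribute [local instance] HasDerivedCategory.standard

noncomputable section

namespace Groth.Agent.CurvFam16.Sep

open Groth.Agent

/-- The fibre of the Hom bundle. -/
theorem nonempty_homSh_pull {X Z : Scheme.{u}} (j : X ⟶ Z) {r : ℕ} {E E' : Z.Modules}
    (hE : FlatMod.IsFinLocFreeOfRank r E) :
    Nonempty ((Scheme.Modules.pullback j).obj (CohB1.tensorMod (RefHull.dual E) E') ≅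
      RefHull.homSh ((Scheme.Modules.pullback j).obj E) ((Scheme.Modules.pullback j).obj E')) := by
  have hjE := CurveStable.isFinLocFree_of_rank (BunLib68.TF.isFinLocFreeOfRank_pullback j hE)
  haveI := isIso_dualPull j E (CurveStable.isFinLocFree_of_rank hE) hjE
  haveI := isIso_theta hjE ((Scheme.Modules.pullback j).obj E')
  exact ⟨(((KFlatLib.pullTensorBiIso j).app (RefHull.dual E)).app E') ≪≫
    (DCoh.tensorBi.mapIso (asIso (dualPull j E))).app _ ≪≫
      asIso (theta ((Scheme.Modules.pullback j).obj E) ((Scheme.Modules.pullback j).obj E'))⟩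

/-- The Hom bundle is locally free. -/
theorem isFinLocFree_hom {Z : Scheme.{u}} [IsLocallyNoetherian Z] {E E' : Z.Modules}
    (hE : FlatMod.IsFinLocFree E) (hE' : FlatMod.IsFinLocFree E') :
    FlatMod.IsFinLocFree (CohB1.tensorMod (RefHull.dual E) E') := by
  have h1 : FlatMod.IsFinLocFree (Coh.structureModule Z) :=
    CurveStable.isFinLocFree_of_rank (InvEnd.isFinLocFreeOfRank_one CurveDeg.isInvertible_structureModule)
  have h2 : FlatMod.IsFinLocFree (RefHull.dual E) := isFinLocFree_homSh hE h1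
  have h3 := KFlatLib.isFinLocFree_tensor h2 hE'
  exact h3

variable (k : Type u) [Field k] [IsAlgClosed k] {X : Scheme.{u}} [X.Over (Spec (CommRingCat.of k))]
  [IsIntegral X] [IsProper (X ↘ Spec (CommRingCat.of k))] [Smooth (X ↘ Spec (CommRingCat.of k))]

theorem isPullback_fibre {T : Scheme.{u}} (q : T ⟶ Spec (CommRingCat.of k)) (t : Spec (CommRingCat.of k) ⟶ T)
    (j : X ⟶ pullback (X ↘ Spec (CommRingCat.of k)) q)
    (h1 : j ≫ pullback.fst _ _ = 𝟙 X) (h2 : j ≫ pullback.snd _ _ = (X ↘ Spec (CommRingCat.of k)) ≫ t)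
    (h3 : t ≫ q = 𝟙 _) : IsPullback j (X ↘ Spec (CommRingCat.of k)) (pullback.snd (X ↘ Spec (CommRingCat.of k)) q) t := by
  refine IsPullback.of_right (h₁₂ := pullback.fst (X ↘ Spec (CommRingCat.of k)) q)
    (v₁₃ := X ↘ Spec (CommRingCat.of k)) (h₂₂ := q) ?_ h2 (IsPullback.of_hasPullback _ _)
  rw [h1, h3]
  exact IsPullback.of_horiz_isIso ⟨by rw [Category.id_comp, Category.comp_id]⟩

theorem exists_lift_point {T : Scheme.{u}} (q : T ⟶ Spec (CommRingCat.of k)) (t : Spec (CommRingCat.of k) ⟶ T)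
    (ht : t ≫ q = 𝟙 _) : ∃ j : X ⟶ pullback (X ↘ Spec (CommRingCat.of k)) q,
      j ≫ pullback.fst _ _ = 𝟙 X ∧ j ≫ pullback.snd _ _ = (X ↘ Spec (CommRingCat.of k)) ≫ t :=
  ⟨pullback.lift (𝟙 X) ((X ↘ Spec (CommRingCat.of k)) ≫ t) (by
      rw [Category.id_comp, Category.assoc, ht, Category.comp_id]), pullback.lift_fst _ _ _, pullback.lift_snd _ _ _⟩

theorem euler_fibre {P T : Scheme.{u}} (f : P ⟶ T) [IsProper f] {e D : ℕ}
    (he : topologicalKrullDim X ≤ e) (hD : e + 1 ≤ D) (t : Spec (CommRingCat.of k) ⟶ T) (j : X ⟶ P)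
    (M : P.Modules) (hM : Coh.IsCoh M) (hpb : IsPullback j (X ↘ Spec (CommRingCat.of k)) f t) :
    Curv2.euler k X ((Scheme.Modules.pullback j).obj M) =
      ∑ p ∈ Finset.range D, (-1 : ℤ) ^ p * (CohIII.fiberRank f M p (t (IsLocalRing.closedPoint k)) : ℤ) := by
  haveI := CurveCohLib.isNoetherian_of_proper (k := k) (X := X)
  haveI : X.IsSeparated := ⟨by
    rw [← Limits.terminal.comp_from (X ↘ Spec (CommRingCat.of k))]
    infer_instance⟩
  rw [Euler.euler_eq_sum k ((Scheme.Modules.pullback j).obj M) D fun i hi =>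
    Snapper.subsingleton_HH_of_dim_le he (QCoh.isQCoh_pullback j hM.1) (Nat.lt_of_succ_le (hD.trans hi))]
  exact Finset.sum_congr rfl fun p _ => by rw [Pic13Lib.fiberRank_eq_finrank f j t hpb hM.1 p]

omit [X.Over (Spec (CommRingCat.of k))] [IsIntegral X] in
theorem exists_point {T : Scheme.{u}} (q : T ⟶ Spec (CommRingCat.of k)) [IsIntegral T] [LocallyOfFiniteType q]
    (hT : topologicalKrullDim T = 1) (t₀ : Spec (CommRingCat.of k) ⟶ T) (ht₀ : t₀ ≫ q = 𝟙 _)
    (W : Set T) (hW : W ∈ nhds (t₀ (IsLocalRing.closedPoint k))) :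
    ∃ t : Spec (CommRingCat.of k) ⟶ T, t ≫ q = 𝟙 _ ∧ t ≠ t₀ ∧ t (IsLocalRing.closedPoint k) ∈ W := by
  let y₀ := t₀ (IsLocalRing.closedPoint k)
  obtain ⟨O, hOW, hO, hyO⟩ := mem_nhds_iff.1 hW
  haveI := LocallyOfFiniteType.jacobsonSpace q
  have hy₀ : IsClosed ({y₀} : Set T) := by
    exact GrpdSlice.isClosed_section_point q t₀ ht₀ _
  have hne : (O \ {y₀}).Nonempty := by
    by_contra hem
    rw [Set.not_nonempty_iff_eq_empty, Set.sdiff_eq_empty] at hem
    have hOeq : O = {y₀} := Set.Subset.antisymm hem (Set.singleton_subset_iff.2 hyO)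
    have hdense : closure ({y₀} : Set T) = Set.univ :=
      ((hOeq ▸ hO : IsOpen ({y₀} : Set T)).dense ⟨y₀, rfl⟩).closure_eq
    rw [hy₀.closure_eq] at hdense
    haveI : Subsingleton T := ⟨fun a b => by
      have ha : a ∈ ({y₀} : Set T) := hdense ▸ Set.mem_univ a
      have hb : b ∈ ({y₀} : Set T) := hdense ▸ Set.mem_univ b
      exact ha.trans hb.symm⟩
    have h0 : topologicalKrullDim T ≤ 0 := by
      haveI : Subsingleton (TopologicalSpace.IrreducibleCloseds T) := ⟨fun a b => by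
        apply SetLike.coe_injective
        exact (Subsingleton.eq_univ_of_nonempty a.isIrreducible.nonempty).trans (Subsingleton.eq_univ_of_nonempty b.isIrreducible.nonempty).symm⟩
      exact Order.krullDim_nonpos_of_subsingleton
    rw [hT] at h0
    exact absurd h0 (by norm_num)
  obtain ⟨z, hz, hzc⟩ := nonempty_inter_closedPoints hne (hO.sdiff hy₀).isLocallyClosed
  refine ⟨pointOfClosedPoint q z hzc, pointOfClosedPoint_comp _ _ _, fun h => hz.2 ?_, ?_⟩
  · show z = y₀
    rw [← pointOfClosedPoint_apply q z hzc (IsLocalRing.closedPoint k), h]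
  · rw [pointOfClosedPoint_apply]
    exact hOW hz.1

theorem separated (hdim : topologicalKrullDim X = 1)
    {T : Scheme.{u}} (q : T ⟶ Spec (CommRingCat.of k)) [IsIntegral T] [LocallyOfFiniteType q]
    (hT : topologicalKrullDim T = 1) (t₀ : Spec (CommRingCat.of k) ⟶ T) (ht₀ : t₀ ≫ q = 𝟙 _)
    (r : ℕ) (E E' : (pullback (X ↘ Spec (CommRingCat.of k)) q).Modules)
    (hE : FlatMod.IsFinLocFreeOfRank r E) (hE' : FlatMod.IsFinLocFreeOfRank r E')
    (hiso : ∀ (t : Spec (CommRingCat.of k) ⟶ T) (j : X ⟶ pullback (X ↘ Spec (CommRingCat.of k)) q),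
      t ≫ q = 𝟙 _ → t ≠ t₀ → j ≫ pullback.fst _ _ = 𝟙 X →
      j ≫ pullback.snd _ _ = (X ↘ Spec (CommRingCat.of k)) ≫ t →
      Nonempty ((Scheme.Modules.pullback j).obj E ≅ (Scheme.Modules.pullback j).obj E'))
    (j₀ : X ⟶ pullback (X ↘ Spec (CommRingCat.of k)) q)
    (hj₀ : j₀ ≫ pullback.fst _ _ = 𝟙 X)
    (hj₀' : j₀ ≫ pullback.snd _ _ = (X ↘ Spec (CommRingCat.of k)) ≫ t₀)
    (hst : ∀ (G : X.Modules) (s : ℕ) (ι : G ⟶ ((Scheme.Modules.pullback j₀).obj E)), Mono ι →
        FlatMod.IsFinLocFreeOfRank s G → 0 < s → s < r →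
        Curv2.deg k X G s * (r : ℤ) < Curv2.deg k X ((Scheme.Modules.pullback j₀).obj E) r * (s : ℤ))
    (hst' : ∀ (G : X.Modules) (s : ℕ) (ι : G ⟶ ((Scheme.Modules.pullback j₀).obj E')), Mono ι →
        FlatMod.IsFinLocFreeOfRank s G → 0 < s → s < r →
        Curv2.deg k X G s * (r : ℤ) < Curv2.deg k X ((Scheme.Modules.pullback j₀).obj E') r * (s : ℤ)) :
    Nonempty ((Scheme.Modules.pullback j₀).obj E ≅ (Scheme.Modules.pullback j₀).obj E') := by
  haveI := CurveSlope.isLocallyNoetherian' k (X := X)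
  haveI : IsLocallyNoetherian T := LocallyOfFiniteType.isLocallyNoetherian q
  let P := pullback (X ↘ Spec (CommRingCat.of k)) q
  let f : P ⟶ T := pullback.snd _ _
  haveI : IsProper f := inferInstanceAs (IsProper (pullback.snd _ q))
  haveI : Flat f := inferInstanceAs (Flat (pullback.snd _ q))
  haveI : IsLocallyNoetherian P := LocallyOfFiniteType.isLocallyNoetherian f
  have hA := BunLib68.TF.isFinLocFreeOfRank_pullback j₀ hE
  have hB := BunLib68.TF.isFinLocFreeOfRank_pullback j₀ hE'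
  have hAf := CurveStable.isFinLocFree_of_rank hA
  have hBf := CurveStable.isFinLocFree_of_rank hB
  rcases Nat.eq_zero_or_pos r with hr | hr
  · have z1 := CurveBundle.isZero_of_rk_zero hAf ((rk_eq hA).trans hr)
    have z2 := CurveBundle.isZero_of_rk_zero hBf ((rk_eq hB).trans hr)
    exact ⟨z1.iso z2⟩
  have hEf := CurveStable.isFinLocFree_of_rank hE
  have hE'f := CurveStable.isFinLocFree_of_rank hE'
  let H := CohB1.tensorMod (RefHull.dual E) E'
  have hHf : FlatMod.IsFinLocFree H :=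
    isFinLocFree_hom hEf hE'f
  have hHc := CurveDeg.isCoh_of_isFinLocFree hHf
  have hEc := CurveDeg.isCoh_of_isFinLocFree hEf
  have hE'c := CurveDeg.isCoh_of_isFinLocFree hE'f
  have hHfl := ParLib.isFlatOver_of_isFinLocFree f hHf
  have hEfl := ParLib.isFlatOver_of_isFinLocFree f hEf
  have hE'fl := ParLib.isFlatOver_of_isFinLocFree f hE'f
  let y₀ := t₀ (IsLocalRing.closedPoint k)
  have hpb₀ := isPullback_fibre k q t₀ j₀ hj₀ hj₀' ht₀
  obtain ⟨d₁, hd₁⟩ := Pic13Lib.exists_eventually_euler_fibre f hEc hEfl y₀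
  obtain ⟨d₂, hd₂⟩ := Pic13Lib.exists_eventually_euler_fibre f hE'c hE'fl y₀
  have he : topologicalKrullDim X ≤ ((1 : ℕ) : WithBot ℕ∞) := le_of_eq (hdim.trans (by norm_num))
  let D := max (1 + 1) (max d₁ d₂)
  have hχ := fun t j M hM hpb => euler_fibre k (X := X) f (D := D) he (le_max_left _ _) t j M hM hpb
  have hpoint := exists_point k q hT t₀ ht₀
  have hnear : ∃ t : Spec (CommRingCat.of k) ⟶ T, t ≫ q = 𝟙 _ ∧ t ≠ t₀ ∧
      t (IsLocalRing.closedPoint k) ∈ {z : T | ∀ d, max d₁ d₂ ≤ d →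
        ∑ p ∈ Finset.range d, (-1 : ℤ) ^ p * (CohIII.fiberRank f E p z : ℤ) =
          ∑ p ∈ Finset.range d, (-1 : ℤ) ^ p * (CohIII.fiberRank f E p y₀ : ℤ) ∧
        ∑ p ∈ Finset.range d, (-1 : ℤ) ^ p * (CohIII.fiberRank f E' p z : ℤ) =
          ∑ p ∈ Finset.range d, (-1 : ℤ) ^ p * (CohIII.fiberRank f E' p y₀ : ℤ)} := by
    refine hpoint _ ?_
    filter_upwards [hd₁, hd₂] with z h1 h2
    exact fun d hd => ⟨h1 d ((le_max_left _ _).trans hd), h2 d ((le_max_right _ _).trans hd)⟩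
  have hdeg : dg k ((Scheme.Modules.pullback j₀).obj E) = dg k ((Scheme.Modules.pullback j₀).obj E') := by
    obtain ⟨t, ht, hne, hmem⟩ := hnear
    obtain ⟨j, hj1, hj2⟩ := exists_lift_point k (X := X) q t ht
    obtain ⟨e'⟩ := hiso t j ht hne hj1 hj2
    have hpb := isPullback_fibre k q t j hj1 hj2 ht
    obtain ⟨h1, h2⟩ := hmem D (le_max_right _ _)
    have h3 : Curv2.euler k X ((Scheme.Modules.pullback j).obj E) =
        Curv2.euler k X ((Scheme.Modules.pullback j).obj E') := CurveCohLib.euler_congr (k := k) e'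
    rw [hχ t j E hEc hpb, hχ t j E' hE'c hpb, h1, h2] at h3
    unfold dg
    rw [hχ t₀ j₀ E hEc hpb₀, hχ t₀ j₀ E' hE'c hpb₀, rk_eq hA, rk_eq hB, h3]
  have hh0 : 0 < Module.finrank k (Coh.HH X (RefHull.homSh ((Scheme.Modules.pullback j₀).obj E)
      ((Scheme.Modules.pullback j₀).obj E')) 0) := by
    by_contra h
    obtain ⟨eH⟩ := nonempty_homSh_pull (E' := E') j₀ hE
    have hzero : CohIII.fiberRank f H 0 y₀ = 0 := by
      rw [Pic13Lib.fiberRank_eq_finrank f j₀ t₀ hpb₀ hHc.1 0, (CurveCohLib.hhEquiv (k := k) eH 0).finrank_eq]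
      omega
    obtain ⟨t, ht, hne, hmem⟩ := hpoint _ (Pic13Lib.eventually_fiberRank_eq_zero f hHc hHfl 0 y₀ hzero)
    obtain ⟨j, hj1, hj2⟩ := exists_lift_point k (X := X) q t ht
    obtain ⟨e'⟩ := hiso t j ht hne hj1 hj2
    have hjE := BunLib68.TF.isFinLocFreeOfRank_pullback j hE
    have hp := h0_pos_of_iso k (CurveStable.isFinLocFree_of_rank hjE) (by rw [rk_eq hjE]; exact hr) e'
    obtain ⟨eH'⟩ := nonempty_homSh_pull (E' := E') j hE
    rw [← (CurveCohLib.hhEquiv (k := k) eH' 0).finrank_eq,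
      ← Pic13Lib.fiberRank_eq_finrank f j t (isPullback_fibre k q t j hj1 hj2 ht) hHc.1 0] at hp
    exact absurd hmem fun hm => by
      change CohIII.fiberRank f H 0 (t (IsLocalRing.closedPoint k)) = 0 at hm
      omega
  obtain ⟨φ, hφ⟩ := exists_hom_of_h0 k hh0
  haveI := isIso_of_stable k hdim.le hA hB hdeg hst hst' φ hφ
  exact ⟨asIso φ⟩

end Groth.Agent.CurvFam16.Sep
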