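import Groth.Agent.BunLib68.Slope
import Groth.Agent.CurvFam16.Sep.DualPull

/-! Maps of stable bundles of equal rank and degree. -/

universe u

set_option backward.isDefEq.respectTransparency false
set_option backward.isDefEq.respectTransparency.types false
set_option linter.style.haveILetI false
set_option linter.unusedSectionVars false

open CategoryTheory CategoryTheory.Limits AlgebraicGeometry TopologicalSpace Opposite
open Groth.Agent.CurveBundle Groth.Agent.CurveSlope Groth.Agent.CurveStable Groth.Agent.BunLib68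

noncomputable section

namespace Groth.Agent.CurvFam16.Sep

open Groth.Agent

variable {X : Scheme.{u}} (k : Type u) [Field k] [X.Over (Spec (CommRingCat.of k))] [IsIntegral X]
  [IsProper (X ↘ Spec (CommRingCat.of k))] [Smooth (X ↘ Spec (CommRingCat.of k))]
  (hdim : topologicalKrullDim X ≤ 1)

include hdim in
theorem isIso_of_stable {r : ℕ} {A B : X.Modules} (hA : FlatMod.IsFinLocFreeOfRank r A)
    (hB : FlatMod.IsFinLocFreeOfRank r B) (hd : dg k A = dg k B)
    (hsA : ∀ (G : X.Modules) (s : ℕ) (ι : G ⟶ A), Mono ι →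
      FlatMod.IsFinLocFreeOfRank s G → 0 < s → s < r →
        Curv2.deg k X G s * (r : ℤ) < Curv2.deg k X A r * (s : ℤ))
    (hsB : ∀ (G : X.Modules) (s : ℕ) (ι : G ⟶ B), Mono ι →
      FlatMod.IsFinLocFreeOfRank s G → 0 < s → s < r →
        Curv2.deg k X G s * (r : ℤ) < Curv2.deg k X B r * (s : ℤ))
    (φ : A ⟶ B) (hφ : φ ≠ 0) : IsIso φ := by
  haveI := isLocallyNoetherian' k (X := X)
  have hAf := CurveStable.isFinLocFree_of_rank hA
  have hBf := CurveStable.isFinLocFree_of_rank hB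
  obtain ⟨I, π, j, hj, hπ, hfac, hK, hI, hrk, hdg, hpos, hle⟩ := exists_decomp k hdim hAf hBf φ
  haveI := hj
  haveI := hπ
  have hrA := rk_eq hA
  have hrB := rk_eq hB
  have hI0 := hpos hφ
  rcases Nat.eq_zero_or_pos (rk (kernel φ)) with h0 | h0
  · haveI : Mono φ := Preadditive.mono_of_kernel_zero
      ((isZero_of_rk_zero hK h0).eq_of_src (kernel.ι φ) 0)
    by_contra hne
    have := dg_lt_of_rk_eq k hdim φ (coh_of_free k hAf) (coh_of_free k hBf) (hrA.trans hrB.symm) hne
    omega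
  · exfalso
    have h1 := hsA (kernel φ) (rk (kernel φ)) (kernel.ι φ) inferInstance (isFinLocFreeOfRank_rk hK) h0 (by omega)
    have h2 := hsB I (rk I) j hj (isFinLocFreeOfRank_rk hI) hI0 (by omega)
    rw [deg_eq_dg k (isFinLocFreeOfRank_rk hK), deg_eq_dg k hA] at h1
    rw [deg_eq_dg k (isFinLocFreeOfRank_rk hI), deg_eq_dg k hB, ← hd] at h2
    have hr : (r : ℤ) = (rk (kernel φ) : ℤ) + (rk I : ℤ) := by rw [← hrA]; exact_mod_cast hrk
    have h3 : dg k A * (r : ℤ) = dg k (kernel φ) * (r : ℤ) + dg k I * (r : ℤ) := by rw [hdg]; ring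
    have h4 : dg k A * (r : ℤ) = dg k A * (rk (kernel φ) : ℤ) + dg k A * (rk I : ℤ) := by rw [hr]; ring
    linarith

omit [IsIntegral X] [IsProper (X ↘ Spec (CommRingCat.of k))] [Smooth (X ↘ Spec (CommRingCat.of k))] in
theorem exists_hom_of_h0 {F G : X.Modules}
    (h : 0 < Module.finrank k (Coh.HH X (RefHull.homSh F G) 0)) : ∃ φ : F ⟶ G, φ ≠ 0 := by
  haveI := Module.nontrivial_of_finrank_pos (R := k) (M := Coh.HH X (RefHull.homSh F G) 0) h
  obtain ⟨t, ht⟩ := exists_ne (0 : Coh.HH X (RefHull.homSh F G) 0)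
  refine ⟨toHom (Sheaf.H.equiv₀ (Coh.toAb (RefHull.homSh F G)) isTerminalTop t), fun h0 => ht ?_⟩
  refine (Sheaf.H.equiv₀ (Coh.toAb (RefHull.homSh F G)) isTerminalTop).injective ?_
  rw [map_zero]
  exact (ofHom_toHom _).symm.trans (h0 ▸ (homEquiv (F := F) (G := G)).symm.map_zero)

theorem h0_pos_of_iso {F G : X.Modules} (hF : FlatMod.IsFinLocFree F) (hr : 0 < rk F) (e : F ≅ G) :
    0 < Module.finrank k (Coh.HH X (RefHull.homSh F G) 0) := by
  haveI := isLocallyNoetherian' k (X := X)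
  have hG : FlatMod.IsFinLocFree G := H23.PullPush.isFinLocFree_of_iso e hF
  haveI := S0002.result k X (RefHull.homSh F G) (coh_of_free k (isFinLocFree_homSh hF hG)) 0
  refine Module.finrank_pos_iff_exists_ne_zero.2
    ⟨(Sheaf.H.equiv₀ (Coh.toAb (RefHull.homSh F G)) isTerminalTop).symm (RefHull.ofHom e.hom ⊤), fun h => ?_⟩
  have h1 : RefHull.ofHom e.hom ⊤ = 0 :=
    (Sheaf.H.equiv₀ (Coh.toAb (RefHull.homSh F G)) isTerminalTop).symm.injective (h.trans (map_zero _).symm)
  have h2 : e.hom = 0 := (toHom_ofHom e.hom).symm.trans (h1 ▸ (homEquiv (F := F) (G := G)).map_zero)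
  have h3 : 𝟙 F = 0 := by rw [← e.hom_inv_id, h2, zero_comp]
  have := rk_eq_zero_of_isZero ((IsZero.iff_id_eq_zero F).2 h3)
  omega

end Groth.Agent.CurvFam16.Sep
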